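import Cfsg.Agent.Lib.Helper21.DGU.Eval
import Cfsg.Agent.Lib.helper23.U3eMain

set_option autoImplicit false
set_option maxRecDepth 1000000

/-!
# DGU (S3670): the transversal products of the chain of the model `E1144`
-/

namespace Cfsg.Agent.Lib.Helper21.DGU

open Cfsg.Agent.Lib.helper23 Subgroup

theorem dguok2 : ∀ P ∈ u3eL2.own, P.ok 1144 = true :=
  (pgChkLvlW0_spec u3echk0x2).2.2.1

theorem dguL2_le : closure (pgSet 1144 u3eL2.own) ≤ E1144 := by
  have h := pgGrpW_mono (n := 1144) (L := u3eL1) (C := [u3eL2]) u3echk0x1 dguok2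
  exact h

/-- the transversal element of the first level -/
noncomputable def dguU1 (z : ℕ) : ↥E1144 :=
  ⟨pgWordPerm 1144 u3eL1.own (u3eL1.path z), pgWordPerm_mem u3eok _⟩

/-- the transversal element of the second level -/
noncomputable def dguU2 (y : ℕ) : ↥E1144 :=
  ⟨pgWordPerm 1144 u3eL2.own (u3eL2.path y), dguL2_le (pgWordPerm_mem dguok2 _)⟩

theorem dguU_apply (z y : ℕ) (i : Fin 1144) :
    (((dguU1 z * dguU2 y : ↥E1144) : Equiv.Perm (Fin 1144)) i).1 = dguPt z y i.1 := by
  change ((pgWordPerm 1144 u3eL1.own (u3eL1.path z))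
    ((pgWordPerm 1144 u3eL2.own (u3eL2.path y)) i)).1 = _
  rw [pgWordPerm_apply u3eok, pgWordPerm_apply dguok2]
  rfl

end Cfsg.Agent.Lib.Helper21.DGU
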