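import Cfsg.Agent.Lib.Helper21.DGU.Tab
import Cfsg.Agent.Lib.Helper21.DGU.Grp

set_option autoImplicit false
set_option maxRecDepth 1000000

/-!
# DGU (S3670): the action of the model `E1144` on the points, the tables as functions on `Fin 1144`
-/

namespace Cfsg.Agent.Lib.Helper21.DGU

open Cfsg.Agent.Lib.helper23 Subgroup

theorem dguB_spec (k : ℕ) (hk : k < 1144) : dlk dguTau k < 1144 ∧ dlk dguR k < 1144 := by
  have := (pgAll_iff _ _).1 dguChkB_true k hk
  simp only [Bool.and_eq_true, Nat.blt_eq] at this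
  exact this

/-- multiplication by a generator of the multiplicative group of the field on the vectors -/
def dguT (x : Fin 1144) : Fin 1144 := ⟨dlk dguTau x.1, (dguB_spec x.1 x.2).1⟩

/-- the representative of the orbit of `dguT` -/
def dguRf (x : Fin 1144) : Fin 1144 := ⟨dlk dguR x.1, (dguB_spec x.1 x.2).2⟩

/-- the exponent: `x = dguT^[e] (dguRf x)` -/
def dguEf (x : Fin 1144) : ZMod 8 := ((dlk3 dguE x.1 : ℕ) : ZMod 8)

theorem dlk3_lt (T i : ℕ) : dlk3 T i < 8 := by
  unfold dlk3
  have : Nat.land (Nat.shiftRight T (Nat.mul 3 i)) 7 ≤ 7 := Nat.and_le_right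
  omega

theorem dguEf_val (x : Fin 1144) : (dguEf x).val = dlk3 dguE x.1 := by
  unfold dguEf
  rw [ZMod.val_natCast, Nat.mod_eq_of_lt (dlk3_lt _ _)]

/-- the set of points with mask `M` -/
def dguY (M : ℕ) : Finset (Fin 1144) := Finset.univ.filter (fun x => pgBit M x.1 = true)

theorem mem_dguY (M : ℕ) (x : Fin 1144) : x ∈ dguY M ↔ pgBit M x.1 = true := by
  simp [dguY]

theorem dgu_apply_inv {α : Type*} (a : Equiv.Perm α) (x : α) : a (a⁻¹ x) = x := by
  rw [← Equiv.Perm.mul_apply, mul_inv_cancel, Equiv.Perm.one_apply]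

/-! ### the generators -/

theorem dgu_gen_cases {p : Equiv.Perm (Fin 1144) → Prop}
    (h0 : p ((u3egen u3eT1x0 u3eI1x0).perm 1144)) (h1 : p ((u3egen u3eT1x1 u3eI1x1).perm 1144)) :
    ∀ x ∈ pgSet 1144 u3eL1.own, p x := by
  rintro x ⟨P, hP, rfl⟩
  rw [u3eown] at hP
  simp only [List.mem_cons, List.not_mem_nil, or_false] at hP
  rcases hP with rfl | rfl
  · exact h0
  · exact h1

theorem dgu_gen0_apply (i : Fin 1144) :
    (((u3egen u3eT1x0 u3eI1x0).perm 1144) i).1 = u3elk u3eT1x0 i.1 :=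
  PFun.perm_apply (u3eok _ u3emem0) i

theorem dgu_gen1_apply (i : Fin 1144) :
    (((u3egen u3eT1x1 u3eI1x1).perm 1144) i).1 = u3elk u3eT1x1 i.1 :=
  PFun.perm_apply (u3eok _ u3emem1) i

/-- a set given by a mask which is invariant under the two generators is invariant under the group -/
theorem dgu_inv (M : ℕ) (h0 : dguChkInv M u3eT1x0 = true) (h1 : dguChkInv M u3eT1x1 = true)
    (g : Equiv.Perm (Fin 1144)) (hg : g ∈ E1144) (x : Fin 1144) :
    pgBit M (g x).1 = pgBit M x.1 := by
  revert x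
  induction hg using closure_induction with
  | mem y hy =>
    revert y
    apply dgu_gen_cases
    · intro x
      rw [dgu_gen0_apply]
      exact (dguBeq_iff _ _).1 ((pgAll_iff _ _).1 h0 x.1 x.2)
    · intro x
      rw [dgu_gen1_apply]
      exact (dguBeq_iff _ _).1 ((pgAll_iff _ _).1 h1 x.1 x.2)
  | one => intro x; rfl
  | mul a b _ _ iha ihb =>
    intro x
    rw [Equiv.Perm.mul_apply, iha, ihb]
  | inv a _ iha =>
    intro x
    have := iha (a⁻¹ x)
    rw [dgu_apply_inv] at this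
    exact this.symm

/-- the group commutes with `dguT` -/
theorem dgu_comm (g : Equiv.Perm (Fin 1144)) (hg : g ∈ E1144) (x : Fin 1144) :
    g (dguT x) = dguT (g x) := by
  revert x
  induction hg using closure_induction with
  | mem y hy =>
    revert y
    apply dgu_gen_cases
    · intro x
      apply Fin.ext
      rw [dgu_gen0_apply]
      change u3elk u3eT1x0 (dlk dguTau x.1) = dlk dguTau (_ : Fin 1144).1
      rw [dgu_gen0_apply]
      have := (pgAll_iff _ _).1 dguChkComm_0 x.1 x.2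
      rw [Nat.beq_eq] at this
      exact this
    · intro x
      apply Fin.ext
      rw [dgu_gen1_apply]
      change u3elk u3eT1x1 (dlk dguTau x.1) = dlk dguTau (_ : Fin 1144).1
      rw [dgu_gen1_apply]
      have := (pgAll_iff _ _).1 dguChkComm_1 x.1 x.2
      rw [Nat.beq_eq] at this
      exact this
  | one => intro x; rfl
  | mul a b _ _ iha ihb =>
    intro x
    rw [Equiv.Perm.mul_apply, Equiv.Perm.mul_apply, ihb, iha]
  | inv a _ iha =>
    intro x
    apply a.injective
    rw [dgu_apply_inv, iha, dgu_apply_inv]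

/-! ### the hypotheses of the twisted permutation character -/

theorem dguIter_eq (n : ℕ) (y : Fin 1144) : (dguT^[n] y).1 = dguIter n y.1 := by
  induction n with
  | zero => rfl
  | succ n ih =>
    rw [Function.iterate_succ_apply']
    change dlk dguTau (dguT^[n] y).1 = dlk dguTau (dguIter n y.1)
    rw [ih]

theorem dguY_spec (M : ℕ) (h : dguChkY M = true) (x : Fin 1144) (hx : x ∈ dguY M) :
    (dguT x ∈ dguY M ∧ dguRf x ∈ dguY M) ∧ (dguRf (dguT x) = dguRf x ∧ dguEf (dguT x) = dguEf x + 1) ∧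
      (dguT^[(dguEf x).val] (dguRf x) = x ∧ dguEf (dguRf x) = 0) := by
  rw [mem_dguY] at hx
  have := (pgAll_iff _ _).1 h x.1 x.2
  rw [hx] at this
  simp only [cond_true, Bool.and_eq_true, Nat.beq_eq] at this
  obtain ⟨⟨⟨h1, h2⟩, h3, h4⟩, h5, h6⟩ := this
  refine ⟨⟨(mem_dguY _ _).2 h1, (mem_dguY _ _).2 h2⟩, ⟨Fin.ext h3, ?_⟩, ?_, ?_⟩
  · unfold dguEf
    change ((dlk3 dguE (dlk dguTau x.1) : ℕ) : ZMod 8) = _
    rw [h4]
    change (((dlk3 dguE x.1 + 1) % 8 : ℕ) : ZMod 8) = _
    rw [ZMod.natCast_mod]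
    push_cast
    rfl
  · apply Fin.ext
    rw [dguIter_eq, dguEf_val]
    exact h5
  · unfold dguEf
    change ((dlk3 dguE (dlk dguR x.1) : ℕ) : ZMod 8) = 0
    rw [h6]
    rfl

end Cfsg.Agent.Lib.Helper21.DGU
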