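import Cfsg.Agent.Lib.Helper21.DGU.Act
import Cfsg.Agent.Lib.Helper13.DGUA
import Cfsg.Agent.Lib.Helper13.DGUB
import Cfsg.Agent.Lib.Helper11.Coherence
import Cfsg.Agent.Lib.Helper11.PfCross

set_option autoImplicit false
set_option maxRecDepth 1000000

/-!
# DGU (S3670): the twisted permutation characters of the model `E1144` and the three generalized characters
-/

namespace Cfsg.Agent.Lib.Helper21.DGU

open Cfsg.Agent.Lib.helper23 Subgroup

/-- the model is finite -/
noncomputable instance dguFintype : Fintype ↥E1144 := Fintype.ofFinite _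

theorem dgu_smul_val (g : ↥E1144) (x : Fin 1144) : g • x = (g : Equiv.Perm (Fin 1144)) x := rfl

/-- the twisted permutation character on the set with mask `M` with the root of unity `dguZ ^ j` -/
noncomputable def dguChi (M j : ℕ) : ↥E1144 → ℂ := fun g =>
  ∑ x ∈ (dguY M).filter (fun x => dguRf x = x),
    if dguRf (g • x) = x then (dguZ ^ j) ^ (dguEf (g • x)).val else 0

theorem dguChi_isCharacter (M : ℕ) (hY : dguChkY M = true) (h0 : dguChkInv M u3eT1x0 = true)
    (h1 : dguChkInv M u3eT1x1 = true) (j : ℕ) : Cfsg.IsCharacter ↥E1144 (dguChi M j) := by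
  refine twisted_perm_isCharacter (G := ↥E1144) (X := Fin 1144) 8 (dguZ ^ j) ?_ (dguY M) dguRf dguEf dguT
    ?_ ?_ ?_ ?_ ?_ ?_ ?_ ?_
  · rw [← pow_mul, mul_comm, pow_mul, dguZ_pow_eight, one_pow]
  · intro g x hx
    rw [mem_dguY] at hx ⊢
    rw [dgu_smul_val, dgu_inv M h0 h1 _ g.2]
    exact hx
  · intro g x
    rw [dgu_smul_val, dgu_smul_val]
    exact dgu_comm _ g.2 x
  · intro x hx; exact (dguY_spec M hY x hx).1.1
  · intro x hx; exact (dguY_spec M hY x hx).1.2
  · intro x hx; exact (dguY_spec M hY x hx).2.1.1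
  · intro x hx; exact (dguY_spec M hY x hx).2.1.2
  · intro x hx; exact (dguY_spec M hY x hx).2.2.1
  · intro x hx; exact (dguY_spec M hY x hx).2.2.2

/-- the permutation character on the orbit of 36 points -/
noncomputable def dguP36 : ↥E1144 → ℂ := fun g =>
  ∑ x ∈ dguY dguO36M, if g • x = x then 1 else 0

theorem dguP36_isCharacter : Cfsg.IsCharacter ↥E1144 dguP36 := by
  have h := twisted_perm_isCharacter (G := ↥E1144) (X := Fin 1144) 1 (1 : ℂ) (one_pow 1)
    (dguY dguO36M) id (fun _ => (0 : ZMod 1)) id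
    (by
      intro g x hx
      rw [mem_dguY] at hx ⊢
      rw [dgu_smul_val, dgu_inv dguO36M dguChkInv_o0 dguChkInv_o1 _ g.2]
      exact hx)
    (fun _ _ => rfl) (fun _ hx => hx) (fun _ hx => hx) (fun _ _ => rfl)
    (fun _ _ => Subsingleton.elim _ _) (fun _ _ => rfl) (fun _ _ => rfl)
  have e : dguP36 = fun g => ∑ x ∈ (dguY dguO36M).filter (fun x => id x = x),
      if id (g • x) = x then (1 : ℂ) ^ ((fun _ => (0 : ZMod 1)) (g • x)).val else 0 := by
    funext g
    simp [dguP36]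
  rw [e]
  exact h

/-- the twisted characters on the isotropic vectors -/
noncomputable def dguI (j : ℕ) : ↥E1144 → ℂ := dguChi dguIsoM j

/-- the twisted characters on the non-isotropic vectors -/
noncomputable def dguN (j : ℕ) : ↥E1144 → ℂ := dguChi dguNonM j

theorem dguI_gen (j : ℕ) : Cfsg.IsGeneralizedCharacter ↥E1144 (dguI j) :=
  genChar_of_isCharacter (dguChi_isCharacter _ dguChkY_iso dguChkInv_iso0 dguChkInv_iso1 j)

theorem dguN_gen (j : ℕ) : Cfsg.IsGeneralizedCharacter ↥E1144 (dguN j) :=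
  genChar_of_isCharacter (dguChi_isCharacter _ dguChkY_non dguChkInv_non0 dguChkInv_non1 j)

theorem dguP36_gen : Cfsg.IsGeneralizedCharacter ↥E1144 dguP36 :=
  genChar_of_isCharacter dguP36_isCharacter

theorem dguOne_gen : Cfsg.IsGeneralizedCharacter ↥E1144 (1 : ↥E1144 → ℂ) :=
  Cfsg.Agent.Lib.Helper11.PfCross.genChar_one

/-- the permutation character `P36 + I0 - 1` -/
noncomputable def dguPM : ↥E1144 → ℂ := dguP36 + dguI 0 - 1

theorem dguPM_gen : Cfsg.IsGeneralizedCharacter ↥E1144 dguPM :=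
  Cfsg.Agent.Lib.Helper11.genChar_sub (Cfsg.Agent.Lib.Helper11.genChar_add dguP36_gen (dguI_gen 0)) dguOne_gen

/-- the irreducible character of degree 28 -/
noncomputable def dguPsi28C : ↥E1144 → ℂ := dguI 3

/-- the irreducible character of degree 21 -/
noncomputable def dguPsi21C : ↥E1144 → ℂ :=
  dguI 2 + dguI 3 + dguI 6 + dguN 0 + (-1 : ℤ) • dguN 3 + (-1 : ℤ) • dguPM

/-- the irreducible character of degree 6 -/
noncomputable def dguPsi6C : ↥E1144 → ℂ :=
  (-1 : ℤ) • (1 : ↥E1144 → ℂ) + (-3 : ℤ) • dguI 1 + dguI 3 + (3 : ℤ) • dguN 0 + (-2 : ℤ) • dguPM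
    + (8 : ℤ) • (dguI 0 * dguI 1) + dguI 1 * dguI 1 + (-4 : ℤ) • (dguI 1 * dguN 0)

open Cfsg.Agent.Lib.Helper11 in
theorem dguPsi28C_gen : Cfsg.IsGeneralizedCharacter ↥E1144 dguPsi28C := dguI_gen 3

open Cfsg.Agent.Lib.Helper11 in
theorem dguPsi21C_gen : Cfsg.IsGeneralizedCharacter ↥E1144 dguPsi21C :=
  genChar_add (genChar_add (genChar_add (genChar_add (genChar_add (dguI_gen 2) (dguI_gen 3)) (dguI_gen 6))
    (dguN_gen 0)) (genChar_zsmul _ (dguN_gen 3))) (genChar_zsmul _ dguPM_gen)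

open Cfsg.Agent.Lib.Helper11 in
theorem dguPsi6C_gen : Cfsg.IsGeneralizedCharacter ↥E1144 dguPsi6C :=
  genChar_add (genChar_add (genChar_add (genChar_add (genChar_add (genChar_add (genChar_add
    (genChar_zsmul _ dguOne_gen) (genChar_zsmul _ (dguI_gen 1))) (dguI_gen 3))
    (genChar_zsmul _ (dguN_gen 0))) (genChar_zsmul _ dguPM_gen))
    (genChar_zsmul _ (genChar_mul (dguI_gen 0) (dguI_gen 1))))
    (genChar_mul (dguI_gen 1) (dguI_gen 1)))
    (genChar_zsmul _ (genChar_mul (dguI_gen 1) (dguN_gen 0)))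

end Cfsg.Agent.Lib.Helper21.DGU
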