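import Mathlib

set_option autoImplicit false

/-!
# DGU (S3670): arithmetic in `ℤ[ζ]`, `ζ ^ 4 = -1`, on quadruples of integers
-/

namespace Cfsg.Agent.Lib.Helper21.DGU

/-- an element `a + b ζ + c ζ² + d ζ³` of `ℤ[ζ]`, `ζ ^ 4 = -1` -/
structure Z8 where
  /-- coefficient of 1 -/
  a : ℤ
  /-- coefficient of ζ -/
  b : ℤ
  /-- coefficient of ζ² -/
  c : ℤ
  /-- coefficient of ζ³ -/
  d : ℤ
deriving DecidableEq

/-- zero -/
def Z8.zero : Z8 := ⟨0, 0, 0, 0⟩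

/-- an integer -/
def Z8.ofInt (n : ℤ) : Z8 := ⟨n, 0, 0, 0⟩

/-- sum -/
def Z8.add (x y : Z8) : Z8 := ⟨x.a + y.a, x.b + y.b, x.c + y.c, x.d + y.d⟩

/-- integer multiple -/
def Z8.smul (n : ℤ) (x : Z8) : Z8 := ⟨n * x.a, n * x.b, n * x.c, n * x.d⟩

/-- product -/
def Z8.mul (x y : Z8) : Z8 :=
  ⟨x.a * y.a - x.b * y.d - x.c * y.c - x.d * y.b,
   x.a * y.b + x.b * y.a - x.c * y.d - x.d * y.c,
   x.a * y.c + x.b * y.b + x.c * y.a - x.d * y.d,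
   x.a * y.d + x.b * y.c + x.c * y.b + x.d * y.a⟩

/-- `ζ ^ k` for `k < 8` (and `-ζ³` for the other `k`) -/
def Z8.mono (k : ℕ) : Z8 :=
  @Nat.rec (fun _ => Z8) ⟨1, 0, 0, 0⟩ (fun k1 _ =>
  @Nat.rec (fun _ => Z8) ⟨0, 1, 0, 0⟩ (fun k2 _ =>
  @Nat.rec (fun _ => Z8) ⟨0, 0, 1, 0⟩ (fun k3 _ =>
  @Nat.rec (fun _ => Z8) ⟨0, 0, 0, 1⟩ (fun k4 _ =>
  @Nat.rec (fun _ => Z8) ⟨-1, 0, 0, 0⟩ (fun k5 _ =>
  @Nat.rec (fun _ => Z8) ⟨0, -1, 0, 0⟩ (fun k6 _ =>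
  @Nat.rec (fun _ => Z8) ⟨0, 0, -1, 0⟩ (fun _ _ => ⟨0, 0, 0, -1⟩) k6) k5) k4) k3) k2) k1) k

/-- the counter number `a` -/
def dguC (cnt a : ℕ) : ℤ := Int.ofNat (Nat.land (Nat.shiftRight cnt (Nat.mul 6 a)) 63)

/-- the value `Σ_a c_a ζ ^ (j a)` of the twisted character number `j` -/
def dguTw (cnt j : ℕ) : Z8 :=
  @Nat.rec (fun _ => Z8) Z8.zero (fun a ih =>
    Z8.add ih (Z8.smul (dguC cnt a) (Z8.mono (Nat.mod (Nat.mul j a) 8)))) 8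

/-- the two coordinates of `x * conj x = A + B (ζ + ζ⁻¹)` -/
def Z8.nrm (x : Z8) : ℤ × ℤ :=
  (x.a * x.a + x.b * x.b + x.c * x.c + x.d * x.d, x.a * x.b + x.b * x.c + x.c * x.d - x.a * x.d)

/-- sum of pairs -/
def dguAdd2 (u v : ℤ × ℤ) : ℤ × ℤ := (u.1 + v.1, u.2 + v.2)

/-- the primitive eighth root of unity -/
noncomputable def dguZ : ℂ := Complex.exp (↑Real.pi * Complex.I / 4)

theorem dguZ_pow_four : dguZ ^ 4 = -1 := by
  unfold dguZ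
  rw [← Complex.exp_nat_mul]
  have : ((4 : ℕ) : ℂ) * (↑Real.pi * Complex.I / 4) = ↑Real.pi * Complex.I := by
    push_cast; ring
  rw [this, Complex.exp_pi_mul_I]

theorem dguZ_pow_eight : dguZ ^ 8 = 1 := by
  have : dguZ ^ 8 = (dguZ ^ 4) ^ 2 := by ring
  rw [this, dguZ_pow_four]; norm_num

theorem dguZ_conj : (starRingEnd ℂ) dguZ = -dguZ ^ 3 := by
  have h1 : (starRingEnd ℂ) dguZ = dguZ⁻¹ := by
    unfold dguZ
    rw [← Complex.exp_conj, ← Complex.exp_neg]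
    congr 1
    simp only [map_div₀, map_mul, Complex.conj_ofReal, Complex.conj_I]
    have : (starRingEnd ℂ) (4 : ℂ) = 4 := by
      have := Complex.conj_ofReal 4
      simpa using this
    rw [this]; ring
  rw [h1]
  apply inv_eq_of_mul_eq_one_right
  linear_combination -dguZ_pow_four

theorem dguZ_pow_mod (k : ℕ) : dguZ ^ (k % 8) = dguZ ^ k := by
  conv_rhs => rw [← Nat.div_add_mod k 8]
  rw [pow_add, pow_mul, dguZ_pow_eight, one_pow, one_mul]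

/-- the complex number of a quadruple -/
noncomputable def Z8.phi (x : Z8) : ℂ :=
  (x.a : ℂ) + (x.b : ℂ) * dguZ + (x.c : ℂ) * dguZ ^ 2 + (x.d : ℂ) * dguZ ^ 3

theorem Z8.phi_zero : Z8.zero.phi = 0 := by
  simp [Z8.phi, Z8.zero]

theorem Z8.phi_ofInt (n : ℤ) : (Z8.ofInt n).phi = (n : ℂ) := by
  simp [Z8.phi, Z8.ofInt]

theorem Z8.phi_add (x y : Z8) : (Z8.add x y).phi = x.phi + y.phi := by
  simp only [Z8.phi, Z8.add]
  push_cast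
  ring

theorem Z8.phi_smul (n : ℤ) (x : Z8) : (Z8.smul n x).phi = (n : ℂ) * x.phi := by
  simp only [Z8.phi, Z8.smul]
  push_cast
  ring

theorem Z8.phi_mul (x y : Z8) : (Z8.mul x y).phi = x.phi * y.phi := by
  simp only [Z8.phi, Z8.mul]
  push_cast
  linear_combination (-((x.b : ℂ) * y.d + x.c * y.c + x.d * y.b + (x.c * y.d + x.d * y.c) * dguZ
    + x.d * y.d * dguZ ^ 2)) * dguZ_pow_four

theorem Z8.phi_mono (k : ℕ) (hk : k < 8) : (Z8.mono k).phi = dguZ ^ k := by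
  have h4 := dguZ_pow_four
  have e0 : Z8.mono 0 = ⟨1, 0, 0, 0⟩ := rfl
  have e1 : Z8.mono 1 = ⟨0, 1, 0, 0⟩ := rfl
  have e2 : Z8.mono 2 = ⟨0, 0, 1, 0⟩ := rfl
  have e3 : Z8.mono 3 = ⟨0, 0, 0, 1⟩ := rfl
  have e4 : Z8.mono 4 = ⟨-1, 0, 0, 0⟩ := rfl
  have e5 : Z8.mono 5 = ⟨0, -1, 0, 0⟩ := rfl
  have e6 : Z8.mono 6 = ⟨0, 0, -1, 0⟩ := rfl
  have e7 : Z8.mono 7 = ⟨0, 0, 0, -1⟩ := rfl
  interval_cases k
  · rw [e0]; simp [Z8.phi]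
  · rw [e1]; simp [Z8.phi]
  · rw [e2]; simp [Z8.phi]
  · rw [e3]; simp [Z8.phi]
  · rw [e4]; simp [Z8.phi, h4]
  · rw [e5]; simp only [Z8.phi]; push_cast; linear_combination (-dguZ) * h4
  · rw [e6]; simp only [Z8.phi]; push_cast; linear_combination (-dguZ ^ 2) * h4
  · rw [e7]; simp only [Z8.phi]; push_cast; linear_combination (-dguZ ^ 3) * h4

theorem Z8.phi_mono_mod (k : ℕ) : (Z8.mono (k % 8)).phi = dguZ ^ k := by
  rw [Z8.phi_mono _ (Nat.mod_lt _ (by norm_num)), dguZ_pow_mod]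

/-- the complex number of a pair `A + B (ζ + ζ⁻¹)` -/
noncomputable def dguPhi2 (u : ℤ × ℤ) : ℂ := (u.1 : ℂ) + (u.2 : ℂ) * (dguZ - dguZ ^ 3)

theorem dguPhi2_add (u v : ℤ × ℤ) : dguPhi2 (dguAdd2 u v) = dguPhi2 u + dguPhi2 v := by
  simp only [dguPhi2, dguAdd2]
  push_cast
  ring

theorem dguPhi2_zero : dguPhi2 (0, 0) = 0 := by
  simp [dguPhi2]

theorem Z8.phi_nrm (x : Z8) : x.phi * (starRingEnd ℂ) x.phi = dguPhi2 x.nrm := by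
  have hc : (starRingEnd ℂ) x.phi =
      (x.a : ℂ) - (x.d : ℂ) * dguZ - (x.c : ℂ) * dguZ ^ 2 - (x.b : ℂ) * dguZ ^ 3 := by
    simp only [Z8.phi, map_add, map_mul, map_pow, map_intCast, dguZ_conj]
    have h4 := dguZ_pow_four
    linear_combination ((x.c : ℂ) * dguZ ^ 2 - (x.d : ℂ) * dguZ ^ 5 + x.d * dguZ) * h4
  rw [hc]
  simp only [Z8.phi, Z8.nrm, dguPhi2]
  push_cast
  have h4 := dguZ_pow_four
  linear_combination (-((x.b : ℂ) * x.b + x.c * x.c + x.d * x.d + (x.c * x.b + x.d * x.c) * dguZ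
    + x.d * x.b * dguZ ^ 2)) * h4

end Cfsg.Agent.Lib.Helper21.DGU
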