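import Cfsg.Agent.Lib.Helper21.DGU.Data
import Cfsg.Agent.Lib.Helper21.DGU.Z8
import Cfsg.Agent.Lib.helper23.PgF

set_option autoImplicit false
set_option maxRecDepth 1000000

/-!
# DGU (S3670): the evaluator

The values of the twisted permutation characters at an element given by its point function, and the sum of the norms
of the three generalized characters over the transversal products of the chain.
-/

namespace Cfsg.Agent.Lib.Helper21.DGU

open Cfsg.Agent.Lib.helper23

/-- evaluate the integer first -/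
def dguForceI {β : Sort*} (i : ℤ) (k : ℤ → β) : β :=
  match i with
  | Int.ofNat n => pgForce n (fun m => k (Int.ofNat m))
  | Int.negSucc n => pgForce n (fun m => k (Int.negSucc m))

theorem dguForceI_eq {β : Sort*} (i : ℤ) (k : ℤ → β) : dguForceI i k = k i := by
  cases i <;> simp [dguForceI, pgForce_eq]

/-- evaluate the four coordinates first -/
def Z8.force {β : Sort*} (x : Z8) (k : Z8 → β) : β :=
  match x with
  | ⟨a, b, c, d⟩ => dguForceI a (fun a' => dguForceI b (fun b' =>
    dguForceI c (fun c' => dguForceI d (fun d' => k ⟨a', b', c', d'⟩))))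

theorem Z8.force_eq {β : Sort*} (x : Z8) (k : Z8 → β) : Z8.force x k = k x := by
  cases x
  simp [Z8.force, dguForceI_eq]

/-- six integers: the two coordinates of the norms of the three generalized characters -/
structure N6 where
  /-- first norm, rational part -/
  a1 : ℤ
  /-- first norm, irrational part -/
  b1 : ℤ
  /-- second norm, rational part -/
  a2 : ℤ
  /-- second norm, irrational part -/
  b2 : ℤ
  /-- third norm, rational part -/
  a3 : ℤ
  /-- third norm, irrational part -/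
  b3 : ℤ
deriving DecidableEq

/-- zero -/
def N6.zero : N6 := ⟨0, 0, 0, 0, 0, 0⟩

/-- sum -/
def N6.add (u v : N6) : N6 :=
  ⟨u.a1 + v.a1, u.b1 + v.b1, u.a2 + v.a2, u.b2 + v.b2, u.a3 + v.a3, u.b3 + v.b3⟩

/-- evaluate the six integers first -/
def N6.force {β : Sort*} (u : N6) (k : N6 → β) : β :=
  match u with
  | ⟨a1, b1, a2, b2, a3, b3⟩ => dguForceI a1 (fun a1' => dguForceI b1 (fun b1' =>
    dguForceI a2 (fun a2' => dguForceI b2 (fun b2' => dguForceI a3 (fun a3' => dguForceI b3 (fun b3' =>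
      k ⟨a1', b1', a2', b2', a3', b3'⟩))))))

theorem N6.force_eq {β : Sort*} (u : N6) (k : N6 → β) : N6.force u k = k u := by
  cases u
  simp [N6.force, dguForceI_eq]

/-- lookup in a table of 11-bit entries -/
def dlk (T i : ℕ) : ℕ := Nat.land (Nat.shiftRight T (Nat.mul 11 i)) 2047

/-- lookup in a table of 3-bit entries -/
def dlk3 (T i : ℕ) : ℕ := Nat.land (Nat.shiftRight T (Nat.mul 3 i)) 7

/-- the counters: for the representatives `x` in the list with `r (f x) = x`, add `64 ^ e (f x)` -/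
def dguCnt (f : ℕ → ℕ) (l : List ℕ) : ℕ :=
  @List.rec ℕ (fun _ => ℕ) 0 (fun x _ ih =>
    pgForce (f x) (fun y => cond (Nat.beq (dlk dguR y) x)
      (Nat.add ih (Nat.pow 64 (dlk3 dguE y))) ih)) l

/-- the number of fixed points in a list -/
def dguFix (f : ℕ → ℕ) (l : List ℕ) : ℕ :=
  @List.rec ℕ (fun _ => ℕ) 0 (fun x _ ih => cond (Nat.beq (f x) x) (Nat.add ih 1) ih) l

/-- the generalized character of degree 6 -/
def dguPsi6 (i0 i1 i3 n0 : Z8) (p : ℕ) : Z8 :=
  Z8.add (Z8.add (Z8.add (Z8.add (Z8.add (Z8.add (Z8.add (Z8.ofInt (-1)) (Z8.smul (-3) i1)) i3)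
    (Z8.smul 3 n0))
    (Z8.smul (-2) (Z8.add (Z8.add (Z8.ofInt (Int.ofNat p)) i0) (Z8.ofInt (-1)))))
    (Z8.smul 8 (Z8.mul i0 i1))) (Z8.mul i1 i1))
    (Z8.smul (-4) (Z8.mul i1 n0))

/-- the generalized character of degree 21 -/
def dguPsi21 (i0 i2 i3 i6 n0 n3 : Z8) (p : ℕ) : Z8 :=
  Z8.add (Z8.add (Z8.add (Z8.add (Z8.add i2 i3) i6) n0) (Z8.smul (-1) n3))
    (Z8.smul (-1) (Z8.add (Z8.add (Z8.ofInt (Int.ofNat p)) i0) (Z8.ofInt (-1))))

/-- the norms of the three generalized characters at an element given by its point function -/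
def dguElt (f : ℕ → ℕ) : N6 :=
  pgForce (dguCnt f dguRepI) (fun cI =>
  pgForce (dguCnt f dguRepN) (fun cN =>
  pgForce (dguFix f dguO36) (fun p =>
  Z8.force (dguTw cI 0) (fun i0 =>
  Z8.force (dguTw cI 1) (fun i1 =>
  Z8.force (dguTw cI 2) (fun i2 =>
  Z8.force (dguTw cI 3) (fun i3 =>
  Z8.force (dguTw cI 6) (fun i6 =>
  Z8.force (dguTw cN 0) (fun n0 =>
  Z8.force (dguTw cN 3) (fun n3 =>
  Z8.force (dguPsi6 i0 i1 i3 n0 p) (fun x6 =>
  Z8.force (dguPsi21 i0 i2 i3 i6 n0 n3 p) (fun x21 =>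
    N6.mk (Z8.nrm x6).1 (Z8.nrm x6).2 (Z8.nrm x21).1 (Z8.nrm x21).2 (Z8.nrm i3).1 (Z8.nrm i3).2))))))))))))

/-- the point function of the product of the transversal elements of `z` and `y` -/
def dguPt (z y p : ℕ) : ℕ :=
  pgEvalW u3eL1.own (u3eL1.path z) (pgEvalW u3eL2.own (u3eL2.path y) p)

/-- the sum over the transversal elements of the second level -/
def dguSumY (z n : ℕ) : N6 :=
  @Nat.rec (fun _ => N6) N6.zero (fun y ih => cond (u3eL2.inO y)
    (N6.force ih (fun s => N6.force (dguElt (dguPt z y)) (fun w => N6.add s w))) ih) n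

/-- the sum over the transversal elements `lo ≤ z < lo + cnt` of the first level -/
def dguSumZ (lo cnt : ℕ) : N6 :=
  @Nat.rec (fun _ => N6) N6.zero (fun k ih => cond (u3eL1.inO (Nat.add lo k))
    (N6.force ih (fun s => N6.force (dguSumY (Nat.add lo k) 1144) (fun w => N6.add s w))) ih) cnt

end Cfsg.Agent.Lib.Helper21.DGU
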