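import Cfsg.Agent.Lib.Helper21.DGU.Chars
import Cfsg.Agent.Lib.Helper27.DGUE1
import Cfsg.Agent.Lib.Helper27.DGUE3

set_option autoImplicit false
set_option maxRecDepth 1000000

/-!
# DGU (S3670): the values of the characters at an element from its point function
-/

namespace Cfsg.Agent.Lib.Helper21.DGU

open Cfsg.Agent.Lib.helper23 Subgroup

/-! ### the counters -/

/-- the exponents of the representatives `x` of the list with `r (f x) = x` -/
def dguEs (f : ℕ → ℕ) (L : List ℕ) : List ℕ :=
  (L.filter (fun x => decide (dlk dguR (f x) = x))).map (fun x => dlk3 dguE (f x))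

theorem dguCnt_cons (f : ℕ → ℕ) (x : ℕ) (L : List ℕ) :
    dguCnt f (x :: L) = if dlk dguR (f x) = x then dguCnt f L + 64 ^ dlk3 dguE (f x)
      else dguCnt f L := by
  change pgForce (f x) (fun y => cond (Nat.beq (dlk dguR y) x)
      (Nat.add (dguCnt f L) (Nat.pow 64 (dlk3 dguE y))) (dguCnt f L)) = _
  rw [pgForce_eq]
  by_cases h : dlk dguR (f x) = x
  · rw [if_pos h]
    have : Nat.beq (dlk dguR (f x)) x = true := by rw [Nat.beq_eq]; exact h
    rw [this]
    rfl
  · rw [if_neg h]
    have : Nat.beq (dlk dguR (f x)) x = false := by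
      cases hb : Nat.beq (dlk dguR (f x)) x with
      | false => rfl
      | true => rw [Nat.beq_eq] at hb; exact absurd hb h
    rw [this]
    rfl

theorem dguCnt_eq (f : ℕ → ℕ) (L : List ℕ) :
    dguCnt f L = ((dguEs f L).map (fun e => 64 ^ e)).sum := by
  induction L with
  | nil => rfl
  | cons x L ih =>
    rw [dguCnt_cons]
    unfold dguEs at ih ⊢
    by_cases h : dlk dguR (f x) = x
    · rw [if_pos h, List.filter_cons_of_pos (by simpa using h), List.map_cons, List.map_cons,
        List.sum_cons, ih, add_comm]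
    · rw [if_neg h, List.filter_cons_of_neg (by simpa using h), ih]

theorem dguEs_sum (f : ℕ → ℕ) (L : List ℕ) (j : ℕ) :
    (L.map (fun x => if dlk dguR (f x) = x then dguZ ^ (j * dlk3 dguE (f x)) else (0 : ℂ))).sum =
      ((dguEs f L).map (fun e => dguZ ^ (j * e))).sum := by
  induction L with
  | nil => rfl
  | cons x L ih =>
    unfold dguEs at ih ⊢
    rw [List.map_cons, List.sum_cons, ih]
    by_cases h : dlk dguR (f x) = x
    · rw [if_pos h, List.filter_cons_of_pos (by simpa using h), List.map_cons, List.map_cons,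
        List.sum_cons]
    · rw [if_neg h, List.filter_cons_of_neg (by simpa using h), zero_add]

theorem dguCnt_spec (f : ℕ → ℕ) (L : List ℕ) (hlen : L.length < 64) (j : ℕ) :
    (dguTw (dguCnt f L) j).phi =
      (L.map (fun x => if dlk dguR (f x) = x then dguZ ^ (j * dlk3 dguE (f x)) else (0 : ℂ))).sum := by
  rw [dguCnt_eq, dguEs_sum]
  apply dguTw_spec
  · intro e he
    unfold dguEs at he
    obtain ⟨x, -, rfl⟩ := List.mem_map.1 he
    exact dlk3_lt _ _
  · unfold dguEs
    rw [List.length_map]
    exact lt_of_le_of_lt (List.length_filter_le _ _) hlen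

theorem dguFix_spec (f : ℕ → ℕ) (L : List ℕ) :
    ((dguFix f L : ℕ) : ℂ) = (L.map (fun x => if f x = x then (1 : ℂ) else 0)).sum := by
  induction L with
  | nil => simp [dguFix]
  | cons x L ih =>
    have e : dguFix f (x :: L) = cond (Nat.beq (f x) x) (Nat.add (dguFix f L) 1) (dguFix f L) := rfl
    rw [e, List.map_cons, List.sum_cons, ← ih]
    by_cases h : f x = x
    · have : Nat.beq (f x) x = true := by rw [Nat.beq_eq]; exact h
      rw [this, if_pos h]
      change (((dguFix f L + 1 : ℕ)) : ℂ) = _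
      push_cast
      ring
    · have : Nat.beq (f x) x = false := by
        cases hb : Nat.beq (f x) x with
        | false => rfl
        | true => rw [Nat.beq_eq] at hb; exact absurd hb h
      rw [this, if_neg h, zero_add]
      rfl

/-! ### the values of the characters -/

theorem dguChi_val (M : ℕ) (L : List ℕ)
    (hL : L = (List.range 1144).filter (fun k => pgBit M k && Nat.beq (dlk dguR k) k))
    (hlen : L.length < 64) (j : ℕ) (g : ↥E1144) (f : ℕ → ℕ)
    (hf : ∀ i : Fin 1144, ((g : Equiv.Perm (Fin 1144)) i).1 = f i.1) :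
    dguChi M j g = (dguTw (dguCnt f L) j).phi := by
  rw [dguCnt_spec f L hlen j, hL]
  unfold dguChi
  have e : (dguY M).filter (fun x => dguRf x = x) =
      Finset.univ.filter (fun x : Fin 1144 =>
        (fun k => pgBit M k && Nat.beq (dlk dguR k) k) x.1 = true) := by
    ext x
    simp only [dguY, Finset.mem_filter, Finset.mem_univ, true_and, Bool.and_eq_true, Nat.beq_eq]
    constructor
    · rintro ⟨h1, h2⟩
      exact ⟨h1, congrArg Fin.val h2⟩
    · rintro ⟨h1, h2⟩
      exact ⟨h1, Fin.ext h2⟩
  rw [e]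
  refine dgu_sum_filter_range 1144 (fun k => pgBit M k && Nat.beq (dlk dguR k) k) _ _ ?_
  intro x
  rw [dgu_smul_val]
  have h1 : (dguRf ((g : Equiv.Perm (Fin 1144)) x) = x) ↔ dlk dguR (f x.1) = x.1 := by
    rw [← hf x]
    constructor
    · intro h; exact congrArg Fin.val h
    · intro h; exact Fin.ext h
  by_cases h : dlk dguR (f x.1) = x.1
  · rw [if_pos h, if_pos (h1.2 h), ← pow_mul, dguEf_val, hf x]
  · rw [if_neg h, if_neg (fun h' => h (h1.1 h'))]

theorem dguP36_val (g : ↥E1144) (f : ℕ → ℕ)
    (hf : ∀ i : Fin 1144, ((g : Equiv.Perm (Fin 1144)) i).1 = f i.1) :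
    dguP36 g = ((dguFix f dguO36 : ℕ) : ℂ) := by
  rw [dguFix_spec, dguO36_eq]
  unfold dguP36 dguY
  refine dgu_sum_filter_range 1144 (fun k => pgBit dguO36M k) _ _ ?_
  intro x
  rw [dgu_smul_val]
  have h1 : ((g : Equiv.Perm (Fin 1144)) x = x) ↔ f x.1 = x.1 := by
    rw [← hf x]
    constructor
    · intro h; exact congrArg Fin.val h
    · intro h; exact Fin.ext h
  by_cases h : f x.1 = x.1
  · rw [if_pos h, if_pos (h1.2 h)]
  · rw [if_neg h, if_neg (fun h' => h (h1.1 h'))]

end Cfsg.Agent.Lib.Helper21.DGU
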