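import Cfsg.Agent.Lib.Helper21.DGU.Eval

set_option autoImplicit false
set_option maxRecDepth 1000000

/-!
# DGU (S3670): the sum of the norms over the 6048 elements, and the degrees
-/

namespace Cfsg.Agent.Lib.Helper21.DGU

open Cfsg.Agent.Lib.helper23

theorem dguSumZ_total : dguSumZ 0 1144 = ⟨6048, 0, 6048, 0, 6048, 0⟩ := by decide +kernel

/-- the values at the identity -/
def dguDeg : Z8 × Z8 × Z8 :=
  pgForce (dguCnt (fun p => p) dguRepI) (fun cI =>
  pgForce (dguCnt (fun p => p) dguRepN) (fun cN =>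
  pgForce (dguFix (fun p => p) dguO36) (fun p =>
    (dguPsi6 (dguTw cI 0) (dguTw cI 1) (dguTw cI 3) (dguTw cN 0) p,
     dguPsi21 (dguTw cI 0) (dguTw cI 2) (dguTw cI 3) (dguTw cI 6) (dguTw cN 0) (dguTw cN 3) p,
     dguTw cI 3))))

theorem dguDeg_eq : dguDeg = (⟨6, 0, 0, 0⟩, ⟨21, 0, 0, 0⟩, ⟨28, 0, 0, 0⟩) := by decide +kernel

end Cfsg.Agent.Lib.Helper21.DGU
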