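import Cfsg.Agent.Lib.Helper21.DGU.Norm
import Cfsg.Agent.Lib.Helper21.DGU.NormChk
import Cfsg.Agent.Lib.Helper1.DGUC
import Cfsg.Agent.Lib.Helper12.DGUH
import Cfsg.Agent.Lib.Helper20.DGUT
import Cfsg.Agent.Lib.helper14.DegGraph

set_option autoImplicit false
set_option maxRecDepth 1000000

/-!
# DGU (S3670): the degrees 6, 21, 28 of `PSU(3,3)` and the assembly
-/

namespace Cfsg.Agent.Lib.Helper21.DGU

open Cfsg.Agent.Lib.helper23 Subgroup Cfsg.Agent.Lib.Helper19.L27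

theorem dgu_one_apply (i : Fin 1144) :
    (((1 : ↥E1144) : Equiv.Perm (Fin 1144)) i).1 = (fun p : ℕ => p) i.1 := rfl

theorem dguDeg_spec : dguDeg = (dguV6 (fun p => p), dguV21 (fun p => p), dguV28 (fun p => p)) := by
  unfold dguDeg
  simp only [pgForce_eq]
  rfl

theorem dguPsi6C_one : dguPsi6C 1 = ((6 : ℕ) : ℂ) := by
  rw [dguV6_spec 1 (fun p => p) dgu_one_apply]
  have h := congrArg (fun t => t.1) (dguDeg_spec.symm.trans dguDeg_eq)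
  change dguV6 (fun p => p) = ⟨6, 0, 0, 0⟩ at h
  rw [h]
  simp [Z8.phi]

theorem dguPsi21C_one : dguPsi21C 1 = ((21 : ℕ) : ℂ) := by
  rw [dguV21_spec 1 (fun p => p) dgu_one_apply]
  have h := congrArg (fun t => t.2.1) (dguDeg_spec.symm.trans dguDeg_eq)
  change dguV21 (fun p => p) = ⟨21, 0, 0, 0⟩ at h
  rw [h]
  simp [Z8.phi]

theorem dguPsi28C_one : dguPsi28C 1 = ((28 : ℕ) : ℂ) := by
  rw [dguV28_spec 1 (fun p => p) dgu_one_apply]
  have h := congrArg (fun t => t.2.2) (dguDeg_spec.symm.trans dguDeg_eq)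
  change dguV28 (fun p => p) = ⟨28, 0, 0, 0⟩ at h
  rw [h]
  simp [Z8.phi]

theorem dgu_inner_one (T : N6 → ℂ) (h0 : T N6.zero = 0) (hadd : ∀ u v, T (N6.add u v) = T u + T v)
    (ψ : ↥E1144 → ℂ)
    (hT : ∀ z y, T (dguElt (dguPt z y)) =
      ψ (dguU1 z * dguU2 y) * (starRingEnd ℂ) (ψ (dguU1 z * dguU2 y)))
    (hval : T ⟨6048, 0, 6048, 0, 6048, 0⟩ = 6048) : Cfsg.classInner ψ ψ = 1 := by
  unfold Cfsg.classInner
  rw [dgu_norm_sum T h0 hadd ψ hT, dguSumZ_total, hval, E1144_card]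
  norm_num

theorem dguPsi6C_norm : Cfsg.classInner dguPsi6C dguPsi6C = 1 :=
  dgu_inner_one N6.t1 N6.t1_zero N6.t1_add _ dguElt_t1 (by simp [N6.t1, dguPhi2])

theorem dguPsi21C_norm : Cfsg.classInner dguPsi21C dguPsi21C = 1 :=
  dgu_inner_one N6.t2 N6.t2_zero N6.t2_add _ dguElt_t2 (by simp [N6.t2, dguPhi2])

theorem dguPsi28C_norm : Cfsg.classInner dguPsi28C dguPsi28C = 1 :=
  dgu_inner_one N6.t3 N6.t3_zero N6.t3_add _ dguElt_t3 (by simp [N6.t3, dguPhi2])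

theorem dgu_deg6 : 6 ∈ Cfsg.charDegrees ↥E1144 :=
  degree_mem_of_norm_one dguPsi6C dguPsi6C_gen dguPsi6C_norm 6 dguPsi6C_one (by norm_num)

theorem dgu_deg21 : 21 ∈ Cfsg.charDegrees ↥E1144 :=
  degree_mem_of_norm_one dguPsi21C dguPsi21C_gen dguPsi21C_norm 21 dguPsi21C_one (by norm_num)

theorem dgu_deg28 : 28 ∈ Cfsg.charDegrees ↥E1144 :=
  degree_mem_of_norm_one dguPsi28C dguPsi28C_gen dguPsi28C_norm 28 dguPsi28C_one (by norm_num)

theorem dgu_charDegrees_psu9 : Cfsg.charDegrees ↥E1144 = Cfsg.charDegrees (Cfsg.PSU 3 F9 3) :=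
  Cfsg.Agent.Lib.helper14.charDegrees_congr (E1144_equiv2.trans su9_psu)

/-- the main theorem of the project -/
theorem dgu_main {F : Type*} [Field F] [Fintype F] (hF : Fintype.card F = 9) :
    ∃ (H : Type) (_ : Group H) (_ : Fintype H), Group.IsSolvable H ∧ Nat.card H = 6048 ∧
      Cfsg.degreePrimes H = Cfsg.degreePrimes (Cfsg.PSU 3 F 3) ∧
      Cfsg.degreeGraph H = Cfsg.degreeGraph (Cfsg.PSU 3 F 3) := by
  obtain ⟨H, iG, iF, hsol, hcard, d, hd, h42⟩ := exists_solvable_6048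
  refine ⟨H, iG, iF, hsol, hcard, ?_⟩
  obtain ⟨hdeg, hcardF⟩ := charDegrees_psu_of_card_nine hF F9.card
  have hcardP : Nat.card (Cfsg.PSU 3 F 3) = 6048 := by
    rw [hcardF, ← Nat.card_congr su9_psu.toEquiv, su9_card]
  have hfin : Finite (Cfsg.PSU 3 F 3) := Nat.finite_of_card_ne_zero (by rw [hcardP]; norm_num)
  have hmem : ∀ k, k ∈ Cfsg.charDegrees ↥E1144 → k ∈ Cfsg.charDegrees (Cfsg.PSU 3 F 3) := by
    intro k hk
    rw [hdeg, ← dgu_charDegrees_psu9]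
    exact hk
  obtain ⟨hP1, hP2⟩ := graph_of_degrees hcardP ⟨6, hmem 6 dgu_deg6, dvd_refl 6⟩
    ⟨28, hmem 28 dgu_deg28, ⟨2, by norm_num⟩⟩ ⟨21, hmem 21 dgu_deg21, dvd_refl 21⟩
  obtain ⟨hH1, hH2⟩ := graph_of_degrees hcard ⟨d, hd, dvd_trans ⟨7, by norm_num⟩ h42⟩
    ⟨d, hd, dvd_trans ⟨3, by norm_num⟩ h42⟩ ⟨d, hd, dvd_trans ⟨2, by norm_num⟩ h42⟩
  refine ⟨by rw [hH1, hP1], ?_⟩
  ext p q
  rw [hH2, hP2]

end Cfsg.Agent.Lib.Helper21.DGU
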