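import Cfsg.Agent.Lib.Helper21.DGU.Grp

set_option autoImplicit false
set_option maxRecDepth 1000000

/-!
# DGU (S3670): the 6048 elements of the model are the products of the transversal elements
-/

namespace Cfsg.Agent.Lib.Helper21.DGU

open Cfsg.Agent.Lib.helper23 Subgroup

theorem dguU2_fix (y : ℕ) :
    ((dguU2 y : ↥E1144) : Equiv.Perm (Fin 1144)) ⟨416, by norm_num⟩ = ⟨416, by norm_num⟩ := by
  have h := (pgChkLvlW0_spec u3echk0x1).2.1
  exact pgGrpW_fix (n := 1144) (C := [u3eL2]) (b := ⟨416, by norm_num⟩) h dguok2 _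
    (pgWordPerm_mem dguok2 _)

theorem dguU1_base (z : ℕ) (hz : z < 1144) (hO : u3eL1.inO z = true) :
    (((dguU1 z : ↥E1144) : Equiv.Perm (Fin 1144)) ⟨416, by norm_num⟩).1 = z := by
  have h := ((pgChkLvlW0_spec u3echk0x1).2.2.2.2.2.1 z hz hO).2
  change ((pgWordPerm 1144 u3eL1.own (u3eL1.path z)) ⟨416, by norm_num⟩).1 = z
  rw [pgWordPerm_apply u3eok]
  exact h

theorem dguU2_base (y : ℕ) (hy : y < 1144) (hO : u3eL2.inO y = true) :
    (((dguU2 y : ↥E1144) : Equiv.Perm (Fin 1144)) ⟨424, by norm_num⟩).1 = y := by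
  have h := ((pgChkLvlW0_spec u3echk0x2).2.2.2.2.2.1 y hy hO).2
  change ((pgWordPerm 1144 u3eL2.own (u3eL2.path y)) ⟨424, by norm_num⟩).1 = y
  rw [pgWordPerm_apply dguok2]
  exact h

theorem dgu_cnt : pgCount 1144 u3eL1.inO * pgCount 1144 u3eL2.inO = 6048 := by decide +kernel

theorem dgu_sum_grp [Fintype ↥E1144] (F : ↥E1144 → ℂ) :
    ∑ g : ↥E1144, F g = ∑ z ∈ Finset.range 1144, if u3eL1.inO z = true then
      (∑ y ∈ Finset.range 1144, if u3eL2.inO y = true then F (dguU1 z * dguU2 y) else 0) else 0 := by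
  classical
  set Z1 := (Finset.range 1144).filter (fun z => u3eL1.inO z = true) with hZ1
  set Z2 := (Finset.range 1144).filter (fun y => u3eL2.inO y = true) with hZ2
  have hinj : Set.InjOn (fun p : ℕ × ℕ => dguU1 p.1 * dguU2 p.2) (↑(Z1 ×ˢ Z2) : Set (ℕ × ℕ)) := by
    rintro ⟨z, y⟩ hp ⟨z', y'⟩ hp' heq
    simp only [Finset.coe_product, Set.mem_prod, Finset.mem_coe, hZ1, hZ2, Finset.mem_filter,
      Finset.mem_range] at hp hp'
    obtain ⟨⟨hz, hzO⟩, hy, hyO⟩ := hp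
    obtain ⟨⟨hz', hzO'⟩, hy', hyO'⟩ := hp'
    change dguU1 z * dguU2 y = dguU1 z' * dguU2 y' at heq
    have h1 := congrArg (fun g : ↥E1144 => ((g : Equiv.Perm (Fin 1144)) ⟨416, by norm_num⟩).1) heq
    simp only [Subgroup.coe_mul, Equiv.Perm.mul_apply, dguU2_fix] at h1
    rw [dguU1_base z hz hzO, dguU1_base z' hz' hzO'] at h1
    subst h1
    have h2 := mul_left_cancel heq
    have h3 := congrArg (fun g : ↥E1144 => ((g : Equiv.Perm (Fin 1144)) ⟨424, by norm_num⟩).1) h2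
    change ((dguU2 y : Equiv.Perm (Fin 1144)) ⟨424, by norm_num⟩).1 =
      ((dguU2 y' : Equiv.Perm (Fin 1144)) ⟨424, by norm_num⟩).1 at h3
    rw [dguU2_base y hy hyO, dguU2_base y' hy' hyO'] at h3
    subst h3
    rfl
  have hcard : (Z1 ×ˢ Z2).card = 6048 := by
    rw [Finset.card_product, hZ1, hZ2, ← pgCount_eq, ← pgCount_eq]
    exact dgu_cnt
  have himg : (Z1 ×ˢ Z2).image (fun p : ℕ × ℕ => dguU1 p.1 * dguU2 p.2) = Finset.univ := by
    apply Finset.eq_univ_of_card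
    rw [Finset.card_image_of_injOn hinj, hcard, ← Nat.card_eq_fintype_card, E1144_card]
  rw [← himg, Finset.sum_image hinj, Finset.sum_product, hZ1, Finset.sum_filter]
  apply Finset.sum_congr rfl
  intro z _
  by_cases hz : u3eL1.inO z = true
  · rw [if_pos hz, if_pos hz, hZ2, Finset.sum_filter]
  · rw [if_neg hz, if_neg hz]

end Cfsg.Agent.Lib.Helper21.DGU
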