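import Cfsg.Agent.Lib.Helper21.DGU.Link
import Cfsg.Agent.Lib.Helper21.DGU.Sum

set_option autoImplicit false
set_option maxRecDepth 1000000

/-!
# DGU (S3670): the norms of the three generalized characters from the evaluator
-/

namespace Cfsg.Agent.Lib.Helper21.DGU

open Cfsg.Agent.Lib.helper23 Subgroup

/-- the value of the generalized character of degree 6 from the point function -/
def dguV6 (f : ℕ → ℕ) : Z8 :=
  dguPsi6 (dguTw (dguCnt f dguRepI) 0) (dguTw (dguCnt f dguRepI) 1) (dguTw (dguCnt f dguRepI) 3)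
    (dguTw (dguCnt f dguRepN) 0) (dguFix f dguO36)

/-- the value of the generalized character of degree 21 from the point function -/
def dguV21 (f : ℕ → ℕ) : Z8 :=
  dguPsi21 (dguTw (dguCnt f dguRepI) 0) (dguTw (dguCnt f dguRepI) 2) (dguTw (dguCnt f dguRepI) 3)
    (dguTw (dguCnt f dguRepI) 6) (dguTw (dguCnt f dguRepN) 0) (dguTw (dguCnt f dguRepN) 3)
    (dguFix f dguO36)

/-- the value of the character of degree 28 from the point function -/
def dguV28 (f : ℕ → ℕ) : Z8 := dguTw (dguCnt f dguRepI) 3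

theorem dguElt_eq (f : ℕ → ℕ) : dguElt f =
    ⟨(Z8.nrm (dguV6 f)).1, (Z8.nrm (dguV6 f)).2, (Z8.nrm (dguV21 f)).1, (Z8.nrm (dguV21 f)).2,
      (Z8.nrm (dguV28 f)).1, (Z8.nrm (dguV28 f)).2⟩ := by
  unfold dguElt
  simp only [pgForce_eq, Z8.force_eq]
  rfl

section
variable (g : ↥E1144) (f : ℕ → ℕ) (hf : ∀ i : Fin 1144, ((g : Equiv.Perm (Fin 1144)) i).1 = f i.1)
include hf

theorem dguI_val (j : ℕ) : dguI j g = (dguTw (dguCnt f dguRepI) j).phi :=
  dguChi_val dguIsoM dguRepI dguRepI_eq dguRepI_len j g f hf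

theorem dguN_val (j : ℕ) : dguN j g = (dguTw (dguCnt f dguRepN) j).phi :=
  dguChi_val dguNonM dguRepN dguRepN_eq dguRepN_len j g f hf

theorem dguV28_spec : dguPsi28C g = (dguV28 f).phi := dguI_val g f hf 3

theorem dguV21_spec : dguPsi21C g = (dguV21 f).phi := by
  unfold dguPsi21C dguV21 dguPsi21 dguPM
  simp only [Pi.add_apply, Pi.sub_apply, Pi.smul_apply, Pi.one_apply]
  simp only [zsmul_eq_mul, Z8.phi_add,
    Z8.phi_smul, Z8.phi_ofInt, dguI_val g f hf, dguN_val g f hf, dguP36_val g f hf,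
    Int.ofNat_eq_natCast, Int.cast_natCast]
  push_cast
  ring

theorem dguV6_spec : dguPsi6C g = (dguV6 f).phi := by
  unfold dguPsi6C dguV6 dguPsi6 dguPM
  simp only [Pi.add_apply, Pi.sub_apply, Pi.smul_apply, Pi.mul_apply, Pi.one_apply]
  simp only [zsmul_eq_mul,
    Z8.phi_add, Z8.phi_smul, Z8.phi_mul, Z8.phi_ofInt, dguI_val g f hf, dguN_val g f hf,
    dguP36_val g f hf, Int.ofNat_eq_natCast, Int.cast_natCast]
  push_cast
  ring

end

/-! ### the loops -/

section
variable (T : N6 → ℂ) (h0 : T N6.zero = 0) (hadd : ∀ u v, T (N6.add u v) = T u + T v)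
include h0 hadd

theorem dguSumY_spec (z n : ℕ) : T (dguSumY z n) =
    ∑ y ∈ Finset.range n, if u3eL2.inO y = true then T (dguElt (dguPt z y)) else 0 := by
  induction n with
  | zero => rw [Finset.range_zero, Finset.sum_empty]; exact h0
  | succ n ih =>
    have e : dguSumY z (n + 1) = cond (u3eL2.inO n)
      (N6.force (dguSumY z n) (fun s => N6.force (dguElt (dguPt z n)) (fun w => N6.add s w)))
      (dguSumY z n) := rfl
    rw [e, Finset.sum_range_succ, ← ih]
    cases u3eL2.inO n with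
    | true => simp only [cond_true, N6.force_eq, hadd, if_true]
    | false => simp

theorem dguSumZ_spec (lo cnt : ℕ) : T (dguSumZ lo cnt) =
    ∑ k ∈ Finset.range cnt, if u3eL1.inO (lo + k) = true then
      (∑ y ∈ Finset.range 1144, if u3eL2.inO y = true then T (dguElt (dguPt (lo + k) y)) else 0)
      else 0 := by
  induction cnt with
  | zero => rw [Finset.range_zero, Finset.sum_empty]; exact h0
  | succ n ih =>
    have e : dguSumZ lo (n + 1) = cond (u3eL1.inO (Nat.add lo n))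
      (N6.force (dguSumZ lo n) (fun s => N6.force (dguSumY (Nat.add lo n) 1144)
        (fun w => N6.add s w))) (dguSumZ lo n) := rfl
    rw [e, Finset.sum_range_succ, ← ih]
    change T (cond (u3eL1.inO (lo + n)) _ _) = _
    cases u3eL1.inO (lo + n) with
    | true =>
      simp only [cond_true, N6.force_eq, hadd, if_true]
      rw [dguSumY_spec T h0 hadd]
      rfl
    | false => simp

end

/-- the first norm -/
noncomputable def N6.t1 (u : N6) : ℂ := dguPhi2 (u.a1, u.b1)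

/-- the second norm -/
noncomputable def N6.t2 (u : N6) : ℂ := dguPhi2 (u.a2, u.b2)

/-- the third norm -/
noncomputable def N6.t3 (u : N6) : ℂ := dguPhi2 (u.a3, u.b3)

theorem N6.t1_zero : N6.t1 N6.zero = 0 := dguPhi2_zero
theorem N6.t2_zero : N6.t2 N6.zero = 0 := dguPhi2_zero
theorem N6.t3_zero : N6.t3 N6.zero = 0 := dguPhi2_zero

theorem N6.t1_add (u v : N6) : N6.t1 (N6.add u v) = N6.t1 u + N6.t1 v :=
  dguPhi2_add (u.a1, u.b1) (v.a1, v.b1)
theorem N6.t2_add (u v : N6) : N6.t2 (N6.add u v) = N6.t2 u + N6.t2 v :=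
  dguPhi2_add (u.a2, u.b2) (v.a2, v.b2)
theorem N6.t3_add (u v : N6) : N6.t3 (N6.add u v) = N6.t3 u + N6.t3 v :=
  dguPhi2_add (u.a3, u.b3) (v.a3, v.b3)

theorem dguElt_t1 (z y : ℕ) : N6.t1 (dguElt (dguPt z y)) =
    dguPsi6C (dguU1 z * dguU2 y) * (starRingEnd ℂ) (dguPsi6C (dguU1 z * dguU2 y)) := by
  rw [dguV6_spec _ _ (dguU_apply z y), Z8.phi_nrm, dguElt_eq]
  rfl

theorem dguElt_t2 (z y : ℕ) : N6.t2 (dguElt (dguPt z y)) =
    dguPsi21C (dguU1 z * dguU2 y) * (starRingEnd ℂ) (dguPsi21C (dguU1 z * dguU2 y)) := by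
  rw [dguV21_spec _ _ (dguU_apply z y), Z8.phi_nrm, dguElt_eq]
  rfl

theorem dguElt_t3 (z y : ℕ) : N6.t3 (dguElt (dguPt z y)) =
    dguPsi28C (dguU1 z * dguU2 y) * (starRingEnd ℂ) (dguPsi28C (dguU1 z * dguU2 y)) := by
  rw [dguV28_spec _ _ (dguU_apply z y), Z8.phi_nrm, dguElt_eq]
  rfl

/-- the sum of `ψ g * conj (ψ g)` over the group from the evaluator -/
theorem dgu_norm_sum (T : N6 → ℂ) (h0 : T N6.zero = 0) (hadd : ∀ u v, T (N6.add u v) = T u + T v)
    (ψ : ↥E1144 → ℂ)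
    (hT : ∀ z y, T (dguElt (dguPt z y)) = ψ (dguU1 z * dguU2 y) * (starRingEnd ℂ) (ψ (dguU1 z * dguU2 y))) :
    ∑ g : ↥E1144, ψ g * (starRingEnd ℂ) (ψ g) = T (dguSumZ 0 1144) := by
  rw [dgu_sum_grp, dguSumZ_spec T h0 hadd]
  apply Finset.sum_congr rfl
  intro z _
  rw [Nat.zero_add]
  by_cases hz : u3eL1.inO z = true
  · rw [if_pos hz, if_pos hz]
    apply Finset.sum_congr rfl
    intro y _
    by_cases hy : u3eL2.inO y = true
    · rw [if_pos hy, if_pos hy, hT]
    · rw [if_neg hy, if_neg hy]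
  · rw [if_neg hz, if_neg hz]

end Cfsg.Agent.Lib.Helper21.DGU
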