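import Cfsg.Agent.Lib.Helper21.DGU.Eval

set_option autoImplicit false
set_option maxRecDepth 1000000

/-!
# DGU (S3670): the checks of the tables
-/

namespace Cfsg.Agent.Lib.Helper21.DGU

open Cfsg.Agent.Lib.helper23

/-- equality of truth values -/
def dguBeq (a b : Bool) : Bool := cond a b (cond b false true)

theorem dguBeq_iff (a b : Bool) : dguBeq a b = true ↔ a = b := by
  cases a <;> cases b <;> simp [dguBeq]

/-- iterate the table `dguTau` -/
def dguIter (n p : ℕ) : ℕ := @Nat.rec (fun _ => ℕ) p (fun _ ih => dlk dguTau ih) n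

/-- the entries of the tables are points -/
def dguChkB : Bool :=
  pgAll 1144 (fun k => Nat.blt (dlk dguTau k) 1144 && Nat.blt (dlk dguR k) 1144)

/-- the hypotheses of the twisted permutation character for the set with mask `M` -/
def dguChkY (M : ℕ) : Bool :=
  pgAll 1144 (fun k => cond (pgBit M k)
    (((pgBit M (dlk dguTau k) && pgBit M (dlk dguR k)) &&
      (Nat.beq (dlk dguR (dlk dguTau k)) (dlk dguR k) &&
        Nat.beq (dlk3 dguE (dlk dguTau k)) (Nat.mod (Nat.succ (dlk3 dguE k)) 8))) &&
      (Nat.beq (dguIter (dlk3 dguE k) (dlk dguR k)) k && Nat.beq (dlk3 dguE (dlk dguR k)) 0)) true)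

/-- the generator with table `T` leaves the set with mask `M` invariant -/
def dguChkInv (M T : ℕ) : Bool :=
  pgAll 1144 (fun k => dguBeq (pgBit M (u3elk T k)) (pgBit M k))

/-- the generator with table `T` commutes with `dguTau` -/
def dguChkComm (T : ℕ) : Bool :=
  pgAll 1144 (fun k => Nat.beq (u3elk T (dlk dguTau k)) (dlk dguTau (u3elk T k)))

theorem dguChkB_true : dguChkB = true := by decide +kernel

theorem dguChkY_iso : dguChkY dguIsoM = true := by decide +kernel

theorem dguChkY_non : dguChkY dguNonM = true := by decide +kernel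

theorem dguChkInv_iso0 : dguChkInv dguIsoM u3eT1x0 = true := by decide +kernel

theorem dguChkInv_iso1 : dguChkInv dguIsoM u3eT1x1 = true := by decide +kernel

theorem dguChkInv_non0 : dguChkInv dguNonM u3eT1x0 = true := by decide +kernel

theorem dguChkInv_non1 : dguChkInv dguNonM u3eT1x1 = true := by decide +kernel

theorem dguChkInv_o0 : dguChkInv dguO36M u3eT1x0 = true := by decide +kernel

theorem dguChkInv_o1 : dguChkInv dguO36M u3eT1x1 = true := by decide +kernel

theorem dguChkComm_0 : dguChkComm u3eT1x0 = true := by decide +kernel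

theorem dguChkComm_1 : dguChkComm u3eT1x1 = true := by decide +kernel

theorem dguRepI_eq : dguRepI =
    (List.range 1144).filter (fun k => pgBit dguIsoM k && Nat.beq (dlk dguR k) k) := by
  decide +kernel

theorem dguRepN_eq : dguRepN =
    (List.range 1144).filter (fun k => pgBit dguNonM k && Nat.beq (dlk dguR k) k) := by
  decide +kernel

theorem dguO36_eq : dguO36 = (List.range 1144).filter (fun k => pgBit dguO36M k) := by
  decide +kernel

theorem dguRepI_len : dguRepI.length < 64 := by decide +kernel

theorem dguRepN_len : dguRepN.length < 64 := by decide +kernel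

end Cfsg.Agent.Lib.Helper21.DGU
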